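import Mathlib
import Groth.Agent.SpecSp50.Basic

set_option autoImplicit false
set_option linter.unusedSectionVars false

open Set Topology TopologicalSpace Set.Notation

namespace Groth.Agent.Cons14

universe u

variable {X : Type u} [tX : TopologicalSpace X] [PrespectralSpace X] [T0Space X] [QuasiSober X]
  [QuasiSeparatedSpace X]

local notation "K[" X "]" => constructibleTopology X

theorem spectralSpace_sub {U : Set X} (ho : IsOpen U) (hc : IsCompact U) : SpectralSpace U :=
  have : CompactSpace U := isCompact_iff_compactSpace.1 hc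
  { __ := ho.isOpenEmbedding_subtypeVal.quasiSober
    __ := ho.isOpenEmbedding_subtypeVal.prespectralSpace
    __ := ho.isOpenEmbedding_subtypeVal.quasiSeparatedSpace
    __ := ho.isOpenEmbedding_subtypeVal.isEmbedding.t0Space }

theorem cons_subtype {U : Set X} (ho : IsOpen U) (hc : IsCompact U) :
    constructibleTopology U = K[X].induced (Subtype.val : U → X) := by
  have hemb := ho.isOpenEmbedding_subtypeVal
  have hpre : ∀ {V : Set X}, IsOpen V → IsCompact V →
      IsOpen (Subtype.val ⁻¹' V : Set U) ∧ IsCompact (Subtype.val ⁻¹' V : Set U) := fun {V} h1 h2 =>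
    ⟨h1.preimage continuous_subtype_val, by
      rw [hemb.isInducing.isCompact_iff, Subtype.image_preimage_coe]
      exact QuasiSeparatedSpace.inter_isCompact U V ho hc h1 h2⟩
  refine le_antisymm ?_ ?_
  · rw [constructibleTopology, constructibleTopology, induced_generateFrom_eq]
    refine le_generateFrom ?_
    rintro _ ⟨V, hV, rfl⟩
    refine GenerateOpen.basic _ ?_
    rcases hV with ⟨h1, h2⟩ | ⟨h1, h2⟩
    · exact Or.inl (hpre h1 h2)
    · exact Or.inr ⟨h1.preimage continuous_subtype_val, (hpre h1.isOpen_compl h2).2⟩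
  · refine le_generateFrom ?_
    intro V hV
    refine (@isOpen_induced_iff U X K[X] V Subtype.val).2 ?_
    rcases hV with ⟨h1, h2⟩ | ⟨h1, h2⟩
    · exact ⟨Subtype.val '' V, SpecSp50.isOpen_cons_of_qc (hemb.isOpenMap _ h1)
        (h2.image continuous_subtype_val), preimage_image_eq V Subtype.val_injective⟩
    · refine ⟨(Subtype.val '' Vᶜ)ᶜ, (@IsClosed.isOpen_compl X K[X] _ (SpecSp50.isClosed_cons_of_qc
        (hemb.isOpenMap _ h1.isOpen_compl) (h2.image continuous_subtype_val))), ?_⟩
      rw [preimage_compl, preimage_image_eq _ Subtype.val_injective, compl_compl]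

theorem isCompact_cons {U : Set X} (ho : IsOpen U) (hc : IsCompact U) : @IsCompact X K[X] U := by
  have := spectralSpace_sub ho hc
  have h1 : @Continuous U X (constructibleTopology U) K[X] Subtype.val :=
    continuous_iff_le_induced.2 (cons_subtype ho hc).le
  have h2 := @IsCompact.image U X (constructibleTopology U) K[X] Set.univ _
    (@CompactSpace.isCompact_univ U (constructibleTopology U) SpecSp50.compactSpace_cons) h1
  simpa using h2

theorem exists_qc_open (x : X) : ∃ U : Set X, IsOpen U ∧ IsCompact U ∧ x ∈ U := by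
  obtain ⟨U, ⟨h1, h2⟩, h3, -⟩ :=
    (PrespectralSpace.isTopologicalBasis (X := X)).exists_subset_of_mem_open (mem_univ x) isOpen_univ
  exact ⟨U, h1, h2, h3⟩

theorem isOpen_cons_iff_forall {E : Set X} :
    IsOpen[K[X]] E ↔ ∀ U : Set X, IsOpen U → IsCompact U → IsOpen[constructibleTopology U] (U ↓∩ E) := by
  refine ⟨fun h U ho hc => ?_, fun h => ?_⟩
  · rw [cons_subtype ho hc]
    exact (@isOpen_induced_iff U X K[X] _ Subtype.val).2 ⟨E, h, rfl⟩
  · refine (@isOpen_iff_forall_mem_open X K[X] E).2 fun x hx => ?_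
    obtain ⟨U, ho, hc, hxU⟩ := exists_qc_open x
    have h1 := h U ho hc
    rw [cons_subtype ho hc] at h1
    obtain ⟨W, hW, hWE⟩ := (@isOpen_induced_iff U X K[X] _ Subtype.val).1 h1
    refine ⟨W ∩ U, fun y hy => ?_, @IsOpen.inter X K[X] _ _ hW (SpecSp50.isOpen_cons_of_qc ho hc), ?_, hxU⟩
    · have := Set.ext_iff.1 hWE ⟨y, hy.2⟩
      exact this.1 hy.1
    · exact (Set.ext_iff.1 hWE ⟨x, hxU⟩).2 hx

theorem isLocallyConstructible_iff_isClopen (E : Set X) :
    IsLocallyConstructible E ↔ IsOpen[K[X]] E ∧ IsClosed[K[X]] E := by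
  rw [← @isOpen_compl_iff X E K[X], isOpen_cons_iff_forall, isOpen_cons_iff_forall]
  constructor
  · intro h
    have key : ∀ U : Set X, IsOpen U → IsCompact U → @IsClopen U (constructibleTopology U) (U ↓∩ E) := by
      intro U ho hc
      have := spectralSpace_sub ho hc
      exact SpecSp50.isConstructible_cons_isClopen
        ((h.preimage_of_isOpenEmbedding ho.isOpenEmbedding_subtypeVal).isConstructible)
    exact ⟨fun U ho hc => (key U ho hc).2,
      fun U ho hc => (@isOpen_compl_iff U _ (constructibleTopology U)).2 (key U ho hc).1⟩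
  · rintro ⟨h1, h2⟩ x
    obtain ⟨U, ho, hc, hxU⟩ := exists_qc_open x
    have := spectralSpace_sub ho hc
    exact ⟨U, ho.mem_nhds hxU, ho, SpecSp50.isConstructible_of_isClopen_cons
      ⟨(@isOpen_compl_iff U _ (constructibleTopology U)).1 (h2 U ho hc), h1 U ho hc⟩⟩

theorem locallyCompactSpace_cons : @LocallyCompactSpace X K[X] := by
  have ht : @T2Space X K[X] := SpecSp50.t2Space_cons
  have : @WeaklyLocallyCompactSpace X K[X] := @WeaklyLocallyCompactSpace.mk X K[X] fun x => by
    obtain ⟨U, ho, hc, hxU⟩ := exists_qc_open x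
    exact ⟨U, isCompact_cons ho hc, @IsOpen.mem_nhds X K[X] _ _ (SpecSp50.isOpen_cons_of_qc ho hc) hxU⟩
  letI := K[X]
  exact inferInstance

theorem isProperMap_of_isSpectralMap {Y : Type u} [TopologicalSpace Y] [PrespectralSpace Y] [T0Space Y]
    [QuasiSober Y] [QuasiSeparatedSpace Y] (f : X → Y) (hf : IsSpectralMap f) :
    @IsProperMap X Y K[X] K[Y] f := by
  have ht : @T2Space Y K[Y] := SpecSp50.t2Space_cons
  have hl : @LocallyCompactSpace Y K[Y] := locallyCompactSpace_cons
  have hcont : @Continuous X Y K[X] K[Y] f := by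
    refine continuous_generateFrom_iff.2 ?_
    rintro V (⟨h1, h2⟩ | ⟨h1, h2⟩)
    · exact SpecSp50.isOpen_cons_of_qc (h1.preimage hf.1) (hf.2 h1 h2)
    · exact IsCompact.isOpen_constructibleTopology_of_isClosed (hf.2 h1.isOpen_compl h2) (h1.preimage hf.1)
  refine (@isProperMap_iff_isCompact_preimage X Y K[X] K[Y] ht
    (@CompactlyCoherentSpace.of_weaklyLocallyCompactSpace Y K[Y] (@instWeaklyLocallyCompactSpaceOfLocallyCompactSpace Y K[Y] hl)) f).2 ⟨hcont, fun C hC => ?_⟩
  choose U hU1 hU2 hU3 using exists_qc_open (X := Y)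
  obtain ⟨t, ht'⟩ := @IsCompact.elim_finite_subcover Y K[Y] C Y hC U
    (fun y => SpecSp50.isOpen_cons_of_qc (hU1 y) (hU2 y)) (fun y _ => mem_iUnion.2 ⟨y, hU3 y⟩)
  have hb : @IsCompact X K[X] (⋃ y ∈ t, f ⁻¹' U y) :=
    @Finset.isCompact_biUnion X Y K[X] t _ fun y _ => isCompact_cons ((hU1 y).preimage hf.1) (hf.2 (hU1 y) (hU2 y))
  refine @IsCompact.of_isClosed_subset X K[X] _ _ hb
    (@IsClosed.preimage X Y K[X] K[Y] f hcont _ (@IsCompact.isClosed Y K[Y] ht _ hC)) ?_
  rw [← preimage_iUnion₂]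
  exact preimage_mono ht'

theorem isCompact_preimage_of_isProperMap {Y : Type u} [TopologicalSpace Y] [PrespectralSpace Y] [T0Space Y]
    [QuasiSober Y] [QuasiSeparatedSpace Y] (f : X → Y) (hf : @IsProperMap X Y K[X] K[Y] f) {V : Set Y}
    (ho : IsOpen V) (hc : IsCompact V) : IsCompact (f ⁻¹' V) :=
  SpecSp50.isCompact_mono SpecSp50.cons_le
    (@IsProperMap.isCompact_preimage X Y K[X] K[Y] f hf V (isCompact_cons ho hc))

end Groth.Agent.Cons14
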